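import Mathlib

/-!
# Group schemes over a field are separated
-/

namespace Groth.Agent.Lib.Helper6.GrpSch.Sep

open CategoryTheory MonoidalCategory CartesianMonoidalCategory MonObj AlgebraicGeometry Limits

universe u

section
variable {C : Type*} [Category C] [CartesianMonoidalCategory C] (G : C) [GrpObj G]

/-- The "division" map `(g, h) ↦ g⁻¹ h`. -/
def dv : G ⊗ G ⟶ G := (fst G G)⁻¹ * snd G G

/-- The diagonal of a group object is the base change of the unit section along division. -/
theorem isPullback_diag : IsPullback (lift (𝟙 G) (𝟙 G)) (toUnit G) (dv G) η[G] := by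
  have w : lift (𝟙 G) (𝟙 G) ≫ dv G = toUnit G ≫ η[G] := by
    unfold dv
    rw [MonObj.comp_mul, GrpObj.comp_inv, lift_fst, lift_snd, inv_mul_cancel, Hom.one_def]
  refine ⟨⟨w⟩, ⟨PullbackCone.IsLimit.mk w (fun s => s.fst ≫ fst G G) ?_ ?_ ?_⟩⟩
  · intro s
    have hc := s.condition
    have h1 : s.snd = toUnit _ := toUnit_unique _ _
    unfold dv at hc
    rw [MonObj.comp_mul, GrpObj.comp_inv, h1, ← Hom.one_def, inv_mul_eq_one] at hc
    apply CartesianMonoidalCategory.hom_ext
    · rw [Category.assoc, lift_fst, Category.comp_id]
    · rw [Category.assoc, lift_snd, Category.comp_id, hc]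
  · intro s
    exact toUnit_unique _ _
  · intro s m h1 _
    rw [← h1, Category.assoc, lift_fst, Category.comp_id]

end

/-- A group scheme whose unit section is a closed immersion is separated. -/
theorem isSeparated_of_isClosedImmersion_unit {S : Scheme.{u}} (G : Over S) [GrpObj G]
    (h : IsClosedImmersion η[G].left) : IsSeparated G.hom := by
  have hpb := (isPullback_diag G).map (Over.forget S)
  have hdiag : (Over.forget S).map (lift (𝟙 G) (𝟙 G)) = pullback.diagonal G.hom := by
    show (lift (𝟙 G) (𝟙 G)).left = _
    rw [Over.lift_left]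
    apply pullback.hom_ext
    · rw [pullback.lift_fst, pullback.diagonal_fst]; rfl
    · rw [pullback.lift_snd, pullback.diagonal_snd]; rfl
  rw [hdiag] at hpb
  refine ⟨?_⟩
  exact MorphismProperty.of_isPullback (P := @IsClosedImmersion) hpb.flip h

/-- A group scheme over a one-point base (e.g. the spectrum of a field) is separated. -/
theorem isSeparated_of_subsingleton {S : Scheme.{u}} [Subsingleton S] (G : Over S) [GrpObj G] :
    IsSeparated G.hom := by
  apply isSeparated_of_isClosedImmersion_unit
  have hsec : η[G].left ≫ G.hom = 𝟙 S := by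
    have := Over.w η[G]
    simpa using this
  exact isClosedImmersion_of_comp_eq_id G.hom η[G].left hsec

end Groth.Agent.Lib.Helper6.GrpSch.Sep
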