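import Mathlib

/-!
# Group objects in cartesian monoidal categories: shear maps
-/

namespace Groth.Agent.Lib.Helper6.GrpSch.Cat

open CategoryTheory MonoidalCategory CartesianMonoidalCategory MonObj

universe v u
variable {C : Type u} [Category.{v} C] [CartesianMonoidalCategory C]
  {G T : C} [GrpObj G]

/-- The shear isomorphism `(g, h) ↦ (g, g h)`. -/
def shear (G : C) [GrpObj G] : G ⊗ G ≅ G ⊗ G where
  hom := lift (fst G G) (fst G G * snd G G)
  inv := lift (fst G G) ((fst G G)⁻¹ * snd G G)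
  hom_inv_id := by
    apply CartesianMonoidalCategory.hom_ext
    · simp
    · simp [comp_mul, GrpObj.comp_inv]
  inv_hom_id := by
    apply CartesianMonoidalCategory.hom_ext
    · simp
    · simp [comp_mul, GrpObj.comp_inv]

lemma shear_hom_snd (G : C) [GrpObj G] : (shear G).hom ≫ snd G G = μ[G] := by
  simp [shear, MonObj.mul_eq_mul]

lemma shear_hom_fst (G : C) [GrpObj G] : (shear G).hom ≫ fst G G = fst G G := by
  simp [shear]

/-- The automorphism `(g, t) ↦ (g⁻¹ x(t), t)` of `G ⊗ T` attached to a `T`-point `x` of `G`. -/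
def twist (x : T ⟶ G) : G ⊗ T ≅ G ⊗ T where
  hom := lift ((fst G T)⁻¹ * (snd G T ≫ x)) (snd G T)
  inv := lift ((snd G T ≫ x) * (fst G T)⁻¹) (snd G T)
  hom_inv_id := by
    apply CartesianMonoidalCategory.hom_ext
    · simp [comp_mul, GrpObj.comp_inv]
    · simp
  inv_hom_id := by
    apply CartesianMonoidalCategory.hom_ext
    · simp [comp_mul, GrpObj.comp_inv]
    · simp

/-- The map `(g, t) ↦ (g, g⁻¹ x(t))`, which parametrises the fibre of multiplication over `x`. -/
def fibMap (x : T ⟶ G) : G ⊗ T ⟶ G ⊗ G :=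
  lift (fst G T) ((fst G T)⁻¹ * (snd G T ≫ x))

lemma fibMap_fst (x : T ⟶ G) : fibMap x ≫ fst G G = fst G T := by
  simp [fibMap]

lemma fibMap_snd (x : T ⟶ G) : fibMap x ≫ snd G G = (twist x).hom ≫ fst G T := by
  simp [fibMap, twist]

lemma fibMap_mul (x : T ⟶ G) : fibMap x ≫ μ[G] = snd G T ≫ x := by
  rw [MonObj.mul_eq_mul, comp_mul, fibMap_fst]
  simp [fibMap]

end Groth.Agent.Lib.Helper6.GrpSch.Cat
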