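import Mathlib
import Groth.Agent.Lib.Helper6.GrpSch.Cat
import Groth.Agent.Lib.Helper6.UOpen.Point

/-!
# Group schemes over a field: topological properties of multiplication
-/

namespace Groth.Agent.Lib.Helper6.GrpSch.Field

open CategoryTheory MonoidalCategory CartesianMonoidalCategory MonObj AlgebraicGeometry Limits
open Groth.Agent.Lib.Helper6.GrpSch.Cat

universe u
variable {S : Scheme.{u}} [Subsingleton S]

omit [Subsingleton S] in
lemma isOpenMap_left_of_iso {A B : Over S} (e : A ≅ B) : IsOpenMap e.hom.left :=
  (Scheme.homeoOfIso ((Over.forget S).mapIso e)).isOpenMap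

lemma isOpenMap_fst (A B : Over S) : IsOpenMap (fst A B).left := by
  have := UOpen.Point.universallyOpen_of_subsingleton B.hom
  have : UniversallyOpen (fst A B).left := by
    rw [Over.fst_left]; infer_instance
  exact (fst A B).left.isOpenMap

lemma isOpenMap_snd (A B : Over S) : IsOpenMap (snd A B).left := by
  have := UOpen.Point.universallyOpen_of_subsingleton A.hom
  have : UniversallyOpen (snd A B).left := by
    rw [Over.snd_left]; infer_instance
  exact (snd A B).left.isOpenMap

variable (G : Over S) [GrpObj G]

/-- The multiplication of a group scheme over a field is an open map. -/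
theorem isOpenMap_mul : IsOpenMap (μ[G].left : (G ⊗ G).left ⟶ G.left) := by
  rw [← shear_hom_snd, Over.comp_left]
  exact (isOpenMap_snd G G).comp (isOpenMap_left_of_iso (shear G))

/-- The residue field of a point, as a scheme over the base field. -/
noncomputable def ptObj (x : G.left) : Over S :=
  Over.mk (G.left.fromSpecResidueField x ≫ G.hom)

/-- The canonical point with values in the residue field. -/
noncomputable def ptHom (x : G.left) : ptObj G x ⟶ G :=
  Over.homMk (G.left.fromSpecResidueField x) rfl

lemma ptHom_left_apply (x : G.left) (t : (ptObj G x).left) : (ptHom G x).left t = x :=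
  Scheme.fromSpecResidueField_apply _ _

instance (x : G.left) : Nonempty (ptObj G x).left :=
  inferInstanceAs (Nonempty (Spec (G.left.residueField x)))

instance (x : G.left) : Nonempty (G ⊗ ptObj G x).left :=
  ⟨(lift (ptHom G x) (𝟙 _)).left (Classical.arbitrary _)⟩

lemma mul_fibMap_apply (x : G.left) (w : (G ⊗ ptObj G x).left) :
    μ[G].left ((fibMap (ptHom G x)).left w) = x := by
  rw [← Scheme.Hom.comp_apply, ← Over.comp_left, fibMap_mul, Over.comp_left,
    Scheme.Hom.comp_apply, ptHom_left_apply]

lemma fst_fibMap_apply (x : G.left) (w : (G ⊗ ptObj G x).left) :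
    (fst G G).left ((fibMap (ptHom G x)).left w) = (fst G (ptObj G x)).left w := by
  rw [← Scheme.Hom.comp_apply, ← Over.comp_left, fibMap_fst]

lemma snd_fibMap_apply (x : G.left) (w : (G ⊗ ptObj G x).left) :
    (snd G G).left ((fibMap (ptHom G x)).left w) =
      (fst G (ptObj G x)).left ((twist (ptHom G x)).hom.left w) := by
  rw [← Scheme.Hom.comp_apply, ← Over.comp_left, fibMap_snd, Over.comp_left,
    Scheme.Hom.comp_apply]

/-- In a group scheme over a field, the product of two dense open subsets is everything. -/
theorem exists_mul_eq_of_dense (U V : G.left.Opens) (hU : Dense (U : Set G.left))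
    (hV : Dense (V : Set G.left)) (x : G.left) :
    ∃ z : (G ⊗ G).left, μ[G].left z = x ∧ (fst G G).left z ∈ U ∧ (snd G G).left z ∈ V := by
  let p : (G ⊗ ptObj G x).left → G.left := (fst G (ptObj G x)).left
  let q : (G ⊗ ptObj G x).left → G.left :=
    fun w => (fst G (ptObj G x)).left ((twist (ptHom G x)).hom.left w)
  have hp : IsOpenMap p := isOpenMap_fst _ _
  have hq : IsOpenMap q := (isOpenMap_fst _ _).comp (isOpenMap_left_of_iso (twist (ptHom G x)))
  have hpc : Continuous p := (fst G (ptObj G x)).left.continuous
  have h1 : Dense (p ⁻¹' (U : Set G.left)) := hU.preimage hp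
  have h2 : Dense (q ⁻¹' (V : Set G.left)) := hV.preimage hq
  have h1o : IsOpen (p ⁻¹' (U : Set G.left)) := U.isOpen.preimage hpc
  obtain ⟨w, hw1, hw2⟩ := (h1.inter_of_isOpen_left h2 h1o).nonempty
  refine ⟨(fibMap (ptHom G x)).left w, mul_fibMap_apply G x w, ?_, ?_⟩
  · rw [fst_fibMap_apply]; exact hw1
  · rw [snd_fibMap_apply]; exact hw2

/-- In a scheme over an affine base, the "product" of two affine opens is quasi-compact. -/
lemma isCompact_fst_preimage_inter_snd_preimage (A B : Over S)
    {U : A.left.Opens} {V : B.left.Opens} (hU : IsAffineOpen U) (hV : IsAffineOpen V) :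
    IsCompact ((fst A B).left ⁻¹' (U : Set A.left) ∩ (snd A B).left ⁻¹' (V : Set B.left)) := by
  have : IsAffine U := hU
  have : IsAffine V := hV
  let j := pullback.map (U.ι ≫ A.hom) (V.ι ≫ B.hom) A.hom B.hom U.ι V.ι (𝟙 _) (by simp) (by simp)
  have hc : IsCompact (Set.range j) := isCompact_range j.continuous
  have hr : Set.range j =
      (fst A B).left ⁻¹' (U : Set A.left) ∩ (snd A B).left ⁻¹' (V : Set B.left) := by
    rw [Scheme.Pullback.range_map, Scheme.Opens.range_ι, Scheme.Opens.range_ι]
    rfl
  rw [← hr]
  exact hc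

/-- An irreducible group scheme over a field is quasi-compact. -/
theorem compactSpace_of_irreducibleSpace [IrreducibleSpace G.left] : CompactSpace G.left := by
  obtain ⟨x⟩ := (inferInstance : Nonempty G.left)
  obtain ⟨U, hU, hxU, -⟩ := exists_isAffineOpen_mem_and_subset (X := G.left) (U := ⊤) (x := x) trivial
  have hUd : Dense (U : Set G.left) := U.isOpen.dense ⟨x, hxU⟩
  have hc := isCompact_fst_preimage_inter_snd_preimage G G hU hU
  constructor
  have : (Set.univ : Set G.left) =
      μ[G].left '' ((fst G G).left ⁻¹' (U : Set G.left) ∩ (snd G G).left ⁻¹' (U : Set G.left)) := by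
    symm
    refine Set.eq_univ_of_forall fun y => ?_
    obtain ⟨z, hz, h1, h2⟩ := exists_mul_eq_of_dense G U U hUd hUd y
    exact ⟨z, ⟨h1, h2⟩, hz⟩
  rw [this]
  exact hc.image μ[G].left.continuous

end Groth.Agent.Lib.Helper6.GrpSch.Field
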