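import Mathlib
import Groth.Agent.Lib.Helper6.GrpSch.Field

/-!
# Locally closed images of homomorphisms of group schemes over a field are closed
-/

namespace Groth.Agent.Lib.Helper6.GrpSch.Closed

open CategoryTheory MonoidalCategory CartesianMonoidalCategory MonObj AlgebraicGeometry Limits
open Groth.Agent.Lib.Helper6.GrpSch.Cat Groth.Agent.Lib.Helper6.GrpSch.Field

universe u
variable {S : Scheme.{u}} [Subsingleton S]

section Top

variable (A B : Over S)

/-- A closed subset of a `K`-scheme as a `K`-scheme (reduced induced structure). -/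
noncomputable def closedObj {Z : Set B.left} (hZ : IsClosed Z) : Over S :=
  Over.mk ((Scheme.IdealSheafData.vanishingIdeal ⟨Z, hZ⟩).subschemeι ≫ B.hom)

/-- The inclusion of a closed subset. -/
noncomputable def closedHom {Z : Set B.left} (hZ : IsClosed Z) : closedObj B hZ ⟶ B :=
  Over.homMk (Scheme.IdealSheafData.vanishingIdeal ⟨Z, hZ⟩).subschemeι rfl

lemma range_closedHom {Z : Set B.left} (hZ : IsClosed Z) :
    Set.range (closedHom B hZ).left = Z := by
  change Set.range (Scheme.IdealSheafData.vanishingIdeal ⟨Z, hZ⟩).subschemeι = Z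
  rw [Scheme.IdealSheafData.range_subschemeι, Scheme.IdealSheafData.coe_support_vanishingIdeal]
  rfl

lemma range_whiskerLeft {C : Over S} (f : C ⟶ B) :
    Set.range (A ◁ f).left = (snd A B).left ⁻¹' Set.range f.left := by
  rw [Over.whiskerLeft_left, Scheme.Pullback.range_map]
  simp

lemma range_whiskerRight {C : Over S} (f : C ⟶ A) :
    Set.range (f ▷ B).left = (fst A B).left ⁻¹' Set.range f.left := by
  rw [Over.whiskerRight_left, Scheme.Pullback.range_map]
  simp

lemma fst_preimage_closure_inter_snd_preimage_subset (S : Set A.left) {Z : Set B.left}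
    (hZ : IsClosed Z) :
    (fst A B).left ⁻¹' closure S ∩ (snd A B).left ⁻¹' Z ⊆
      closure ((fst A B).left ⁻¹' S ∩ (snd A B).left ⁻¹' Z) := by
  rintro y ⟨hy1, hy2⟩
  let j := A ◁ closedHom B hZ
  have hj1 : ∀ y', (fst A B).left (j.left y') = (fst A (closedObj B hZ)).left y' := fun y' => by
    rw [← Scheme.Hom.comp_apply, ← Over.comp_left, whiskerLeft_fst]
  have hj2 : ∀ y', (snd A B).left (j.left y') =
      (closedHom B hZ).left ((snd A (closedObj B hZ)).left y') := fun y' => by
    rw [← Scheme.Hom.comp_apply, ← Over.comp_left, whiskerLeft_snd, Over.comp_left,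
      Scheme.Hom.comp_apply]
  have hy : y ∈ Set.range j.left := by
    rw [range_whiskerLeft, range_closedHom]; exact hy2
  obtain ⟨y', rfl⟩ := hy
  rw [Set.mem_preimage, hj1] at hy1
  have h1 : y' ∈ closure ((fst A (closedObj B hZ)).left ⁻¹' S) := by
    rw [← (isOpenMap_fst A (closedObj B hZ)).preimage_closure_eq_closure_preimage
      (fst A (closedObj B hZ)).left.continuous]
    exact hy1
  have h2 := image_closure_subset_closure_image j.left.continuous (Set.mem_image_of_mem _ h1)
  refine closure_mono ?_ h2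
  rintro _ ⟨y'', hy'', rfl⟩
  refine ⟨?_, ?_⟩
  · rw [Set.mem_preimage, hj1]; exact hy''
  · rw [Set.mem_preimage, hj2]; exact (range_closedHom B hZ).subset ⟨_, rfl⟩

lemma snd_preimage_closure_inter_fst_preimage_subset (S : Set B.left) {Z : Set A.left}
    (hZ : IsClosed Z) :
    (snd A B).left ⁻¹' closure S ∩ (fst A B).left ⁻¹' Z ⊆
      closure ((snd A B).left ⁻¹' S ∩ (fst A B).left ⁻¹' Z) := by
  rintro y ⟨hy1, hy2⟩
  let j := closedHom A hZ ▷ B
  have hj1 : ∀ y', (snd A B).left (j.left y') = (snd (closedObj A hZ) B).left y' := fun y' => by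
    rw [← Scheme.Hom.comp_apply, ← Over.comp_left, whiskerRight_snd]
  have hj2 : ∀ y', (fst A B).left (j.left y') =
      (closedHom A hZ).left ((fst (closedObj A hZ) B).left y') := fun y' => by
    rw [← Scheme.Hom.comp_apply, ← Over.comp_left, whiskerRight_fst, Over.comp_left,
      Scheme.Hom.comp_apply]
  have hy : y ∈ Set.range j.left := by
    rw [range_whiskerRight, range_closedHom]; exact hy2
  obtain ⟨y', rfl⟩ := hy
  rw [Set.mem_preimage, hj1] at hy1
  have h1 : y' ∈ closure ((snd (closedObj A hZ) B).left ⁻¹' S) := by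
    rw [← (isOpenMap_snd (closedObj A hZ) B).preimage_closure_eq_closure_preimage
      (snd (closedObj A hZ) B).left.continuous]
    exact hy1
  have h2 := image_closure_subset_closure_image j.left.continuous (Set.mem_image_of_mem _ h1)
  refine closure_mono ?_ h2
  rintro _ ⟨y'', hy'', rfl⟩
  refine ⟨?_, ?_⟩
  · rw [Set.mem_preimage, hj1]; exact hy''
  · rw [Set.mem_preimage, hj2]; exact (range_closedHom A hZ).subset ⟨_, rfl⟩

lemma denseRange_whiskerRight {C : Over S} (f : C ⟶ A) (hf : DenseRange f.left) :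
    DenseRange (f ▷ B).left := by
  rw [DenseRange, dense_iff_inter_open]
  intro W hW hWne
  have h1 : IsOpen ((fst A B).left '' W) := isOpenMap_fst A B W hW
  obtain ⟨_, ⟨w, hw, rfl⟩, ⟨c, hc⟩⟩ := hf.inter_open_nonempty _ h1 (hWne.image _)
  refine ⟨w, hw, ?_⟩
  rw [range_whiskerRight]
  exact ⟨c, hc⟩

lemma denseRange_whiskerLeft {C : Over S} (f : C ⟶ B) (hf : DenseRange f.left) :
    DenseRange (A ◁ f).left := by
  rw [DenseRange, dense_iff_inter_open]
  intro W hW hWne
  have h1 : IsOpen ((snd A B).left '' W) := isOpenMap_snd A B W hW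
  obtain ⟨_, ⟨w, hw, rfl⟩, ⟨c, hc⟩⟩ := hf.inter_open_nonempty _ h1 (hWne.image _)
  refine ⟨w, hw, ?_⟩
  rw [range_whiskerLeft]
  exact ⟨c, hc⟩

lemma denseRange_tensorHom {A' B' : Over S} (f : A' ⟶ A) (g : B' ⟶ B) (hf : DenseRange f.left)
    (hg : DenseRange g.left) : DenseRange (f ⊗ₘ g).left := by
  rw [MonoidalCategory.tensorHom_def, Over.comp_left]
  exact (denseRange_whiskerLeft A B g hg).comp (denseRange_whiskerRight A B' f hf)
    (A ◁ g).left.continuous

end Top

section Grp

variable {H G : Over S} [GrpObj H] [GrpObj G] (ψ : H ⟶ G) [IsMonHom ψ]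

lemma mul_mem_range {z : (G ⊗ G).left} (h1 : (fst G G).left z ∈ Set.range ψ.left)
    (h2 : (snd G G).left z ∈ Set.range ψ.left) : μ[G].left z ∈ Set.range ψ.left := by
  have hz : z ∈ Set.range (ψ ⊗ₘ ψ).left := by
    rw [Over.tensorHom_left, Scheme.Pullback.range_map]; exact ⟨h1, h2⟩
  obtain ⟨z', rfl⟩ := hz
  refine ⟨μ[H].left z', ?_⟩
  rw [← Scheme.Hom.comp_apply, ← Over.comp_left, IsMonHom.mul_hom, Over.comp_left,
    Scheme.Hom.comp_apply]

lemma one_mem_range (s : (𝟙_ (Over S)).left) :
    η[G].left s ∈ Set.range ψ.left :=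
  ⟨η[H].left s, by rw [← Scheme.Hom.comp_apply, ← Over.comp_left, IsMonHom.one_hom]⟩

lemma inv_mem_range {g : G.left} (hg : g ∈ Set.range ψ.left) :
    ι[G].left g ∈ Set.range ψ.left := by
  obtain ⟨h, rfl⟩ := hg
  exact ⟨ι[H].left h, by
    rw [← Scheme.Hom.comp_apply, ← Over.comp_left, GrpObj.inv_hom, Over.comp_left,
      Scheme.Hom.comp_apply]⟩

lemma inv_mem_closure_range {g : G.left} (hg : g ∈ closure (Set.range ψ.left)) :
    ι[G].left g ∈ closure (Set.range ψ.left) := by
  have := image_closure_subset_closure_image ι[G].left.continuous (Set.mem_image_of_mem _ hg)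
  refine closure_mono ?_ this
  rintro _ ⟨g', hg', rfl⟩
  exact inv_mem_range ψ hg'

theorem mul_mem_closure_range {O : Set G.left} (hO : IsOpen O)
    (hR : Set.range ψ.left = O ∩ closure (Set.range ψ.left)) {z : (G ⊗ G).left}
    (h1 : (fst G G).left z ∈ closure (Set.range ψ.left))
    (h2 : (snd G G).left z ∈ closure (Set.range ψ.left)) :
    μ[G].left z ∈ closure (Set.range ψ.left) := by
  set R := Set.range ψ.left with hRdef
  have hZ : IsClosed (closure R) := isClosed_closure
  have ha : z ∈ closure ((fst G G).left ⁻¹' R ∩ (snd G G).left ⁻¹' closure R) :=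
    fst_preimage_closure_inter_snd_preimage_subset G G R hZ ⟨h1, h2⟩
  have hb : (fst G G).left ⁻¹' R ∩ (snd G G).left ⁻¹' closure R ⊆
      closure ((fst G G).left ⁻¹' R ∩ (snd G G).left ⁻¹' R) := by
    rintro y ⟨hy1, hy2⟩
    have hy1' : (fst G G).left y ∈ O ∩ closure R := hR ▸ hy1
    have h3 : y ∈ closure ((snd G G).left ⁻¹' R ∩ (fst G G).left ⁻¹' closure R) :=
      snd_preimage_closure_inter_fst_preimage_subset G G R hZ ⟨hy2, hy1'.2⟩
    have hOo : IsOpen ((fst G G).left ⁻¹' O) := hO.preimage (fst G G).left.continuous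
    have h4 := hOo.inter_closure ⟨(hy1'.1 : y ∈ (fst G G).left ⁻¹' O), h3⟩
    refine closure_mono ?_ h4
    rintro y' ⟨hy'1, hy'2, hy'3⟩
    refine ⟨?_, hy'2⟩
    change (fst G G).left y' ∈ R
    rw [hR]
    exact ⟨hy'1, hy'3⟩
  have hc : z ∈ closure ((fst G G).left ⁻¹' R ∩ (snd G G).left ⁻¹' R) :=
    closure_minimal hb isClosed_closure ha
  have hd := image_closure_subset_closure_image μ[G].left.continuous (Set.mem_image_of_mem _ hc)
  refine closure_mono ?_ hd
  rintro _ ⟨y, ⟨hy1, hy2⟩, rfl⟩
  exact mul_mem_range ψ hy1 hy2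

theorem isClosed_range_of_isLocallyClosed (h : IsLocallyClosed (Set.range ψ.left)) :
    IsClosed (Set.range ψ.left) := by
  obtain ⟨O, Z', hO, hZ', hOZ⟩ := h
  set R := Set.range ψ.left with hRdef
  have hR : R = O ∩ closure R := by
    apply subset_antisymm
    · intro r hr
      exact ⟨(hOZ ▸ hr : r ∈ O ∩ Z').1, subset_closure hr⟩
    · rintro r ⟨hr1, hr2⟩
      rw [hOZ]
      exact ⟨hr1, closure_minimal (hOZ ▸ Set.inter_subset_right) hZ' hr2⟩
  rw [← closure_subset_iff_isClosed]
  intro x hx
  let T := ptObj G x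
  let xb : T ⟶ G := ptHom G x
  let p : (G ⊗ T).left → G.left := (fst G T).left
  let q : (G ⊗ T).left → G.left := fun w => (fst G T).left ((twist xb).hom.left w)
  have hp : IsOpenMap p := isOpenMap_fst _ _
  have hpc : Continuous p := (fst G T).left.continuous
  have hqc : Continuous q :=
    (fst G T).left.continuous.comp (twist xb).hom.left.continuous
  let pt : T.left := Classical.arbitrary _
  let x' : (G ⊗ T).left := (lift xb (𝟙 T)).left pt
  have hpx' : p x' = x := by
    change (fst G T).left ((lift xb (𝟙 T)).left pt) = x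
    rw [← Scheme.Hom.comp_apply, ← Over.comp_left, lift_fst]
    exact ptHom_left_apply G x pt
  have hqx' : q x' ∈ R := by
    change (fst G T).left ((twist xb).hom.left ((lift xb (𝟙 T)).left pt)) ∈ R
    rw [← Scheme.Hom.comp_apply, ← Scheme.Hom.comp_apply, ← Over.comp_left, ← Over.comp_left]
    have : lift xb (𝟙 T) ≫ (twist xb).hom ≫ fst G T = toUnit T ≫ η[G] := by
      simp [twist, comp_mul, GrpObj.comp_inv, Hom.one_def]
    rw [this, Over.comp_left, Scheme.Hom.comp_apply]
    exact one_mem_range ψ _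
  have hpZ : ∀ w, p w ∈ closure R → q w ∈ closure R := by
    intro w hw
    let zw : (G ⊗ G).left := (lift (fst G T ≫ ι[G]) (snd G T ≫ xb)).left w
    have e1 : (fst G G).left zw = ι[G].left (p w) := by
      change (fst G G).left ((lift (fst G T ≫ ι[G]) (snd G T ≫ xb)).left w) = _
      rw [← Scheme.Hom.comp_apply, ← Over.comp_left, lift_fst, Over.comp_left,
        Scheme.Hom.comp_apply]
    have e2 : (snd G G).left zw = x := by
      change (snd G G).left ((lift (fst G T ≫ ι[G]) (snd G T ≫ xb)).left w) = _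
      rw [← Scheme.Hom.comp_apply, ← Over.comp_left, lift_snd, Over.comp_left,
        Scheme.Hom.comp_apply]
      exact ptHom_left_apply G x _
    have e3 : μ[G].left zw = q w := by
      change μ[G].left ((lift (fst G T ≫ ι[G]) (snd G T ≫ xb)).left w) =
        (fst G T).left ((twist xb).hom.left w)
      rw [← Scheme.Hom.comp_apply, ← Scheme.Hom.comp_apply, ← Over.comp_left, ← Over.comp_left]
      congr 2
      simp [twist, Hom.mul_def, Hom.inv_def]
    rw [← e3]
    refine mul_mem_closure_range ψ hO hR ?_ ?_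
    · rw [e1]; exact inv_mem_closure_range ψ hw
    · rw [e2]; exact hx
  have hx'cl : x' ∈ closure (p ⁻¹' R) := by
    rw [← hp.preimage_closure_eq_closure_preimage hpc, Set.mem_preimage, hpx']
    exact hx
  have hqO : IsOpen (q ⁻¹' O) := hO.preimage hqc
  have hx'O : x' ∈ q ⁻¹' O := (hR ▸ hqx' : q x' ∈ O ∩ closure R).1
  obtain ⟨w, hwO, hwR⟩ := mem_closure_iff.1 hx'cl _ hqO hx'O
  have hqw : q w ∈ R := by
    rw [hR]
    exact ⟨hwO, hpZ w (subset_closure hwR)⟩
  have := mul_mem_range ψ (z := (fibMap xb).left w)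
    (by rw [fst_fibMap_apply]; exact hwR) (by rw [snd_fibMap_apply]; exact hqw)
  rwa [mul_fibMap_apply] at this

end Grp

end Groth.Agent.Lib.Helper6.GrpSch.Closed
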