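import Mathlib
import Groth.Agent.Lib.Helper6.GrpSch.Field
import Groth.Agent.Lib.Helper6.FppfComp.Main
import Groth.Agent.Lib.Helper6.LocIso.QFGeneric

/-!
# Every point of a group scheme over a field is a product of two maximal points
-/

namespace Groth.Agent.Lib.Helper6.GrpSch.MaxPt

open CategoryTheory MonoidalCategory CartesianMonoidalCategory MonObj AlgebraicGeometry Limits
open Groth.Agent.Lib.Helper6.GrpSch.Cat Groth.Agent.Lib.Helper6.GrpSch.Field

universe u
variable {K : Type u} [Field K] (G : Over (Spec (CommRingCat.of K))) [GrpObj G]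

instance flat_fst (A B : Over (Spec (CommRingCat.of K))) : Flat (fst A B).left := by
  rw [Over.fst_left]; infer_instance

instance isIso_left_of_iso {S : Scheme.{u}} {A B : Over S} (e : A ≅ B) : IsIso e.hom.left :=
  (inferInstance : IsIso ((Over.forget S).map e.hom))

theorem exists_mul_eq_of_maximal (x : G.left) :
    ∃ z : (G ⊗ G).left, μ[G].left z = x ∧
      closure {(fst G G).left z} ∈ irreducibleComponents G.left ∧
      closure {(snd G G).left z} ∈ irreducibleComponents G.left := by
  obtain ⟨w, hw, -⟩ := Groth.Agent.Lib.Helper6.LocIso.exists_generic_specializes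
    (Classical.arbitrary (G ⊗ ptObj G x).left)
  have hw' : ∀ w', w' ⤳ w → w' = w := fun w' h =>
    Groth.Agent.Lib.Helper6.LocIso.eq_of_specializes_of_closure_mem hw h
  refine ⟨(fibMap (ptHom G x)).left w, mul_fibMap_apply G x w, ?_, ?_⟩
  · rw [fst_fibMap_apply]
    exact Groth.Agent.Lib.Helper6.FppfComp.closure_mem_irreducibleComponents_of_forall_specializes
      (Groth.Agent.Lib.Helper6.FppfComp.gen_map_of_flat (fst G (ptObj G x)).left hw')
  · rw [snd_fibMap_apply, ← Scheme.Hom.comp_apply]
    exact Groth.Agent.Lib.Helper6.FppfComp.closure_mem_irreducibleComponents_of_forall_specializes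
      (Groth.Agent.Lib.Helper6.FppfComp.gen_map_of_flat ((twist (ptHom G x)).hom.left ≫ (fst G (ptObj G x)).left) hw')

end Groth.Agent.Lib.Helper6.GrpSch.MaxPt
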